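import Mathlib.NumberTheory.RamificationInertia.Valuation
import Mathlib.NumberTheory.RamificationInertia.Basic
import Mathlib.RingTheory.DedekindDomain.IntegralClosure
import Mathlib.RingTheory.DedekindDomain.PID
import Mathlib.RingTheory.DiscreteValuationRing.Basic
import Mathlib.FieldTheory.PurelyInseparable.Exponent
import Mathlib.FieldTheory.PurelyInseparable.Basic
import Mathlib.FieldTheory.SeparableClosure
import Mathlib.RingTheory.Polynomial.Eisenstein.Basic
import Mathlib.RingTheory.Polynomial.GaussLemma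
import Mathlib.RingTheory.AdjoinRoot
import Mathlib.Algebra.Group.Subgroup.ZPowers.Lemmas
import Mathlib.RingTheory.Int.Basic
import Mathlib.Algebra.GCDMonoid.Finset

/-!
Degrees of points of the twisted diagonal hypersurface over a discretely valued field.
-/

set_option autoImplicit false
set_option linter.style.haveILetI false
universe u

open WithZero IsDedekindDomain

namespace Groth.L14.TwistDiag

/-- The greatest common divisor of the `d / δ`. -/
def ind (d N : ℕ) : ℕ := ((Finset.Icc 1 N).filter (fun δ => δ ∣ d)).gcd (fun δ => d / δ)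

theorem ind_dvd_of_dvd {d N δ E : ℕ} (hd : 1 ≤ d) (hδ1 : 1 ≤ δ) (hδN : δ ≤ N) (h : d ∣ δ * E) :
    ind d N ∣ E := by
  have hg : 1 ≤ Nat.gcd δ d := Nat.gcd_pos_of_pos_left _ hδ1
  have hmem : Nat.gcd δ d ∈ (Finset.Icc 1 N).filter (fun δ => δ ∣ d) :=
    Finset.mem_filter.2 ⟨Finset.mem_Icc.2 ⟨hg, (Nat.gcd_le_left _ hδ1).trans hδN⟩, Nat.gcd_dvd_right _ _⟩
  refine (Finset.gcd_dvd hmem).trans ?_
  have hco : Nat.Coprime (d / Nat.gcd δ d) (δ / Nat.gcd δ d) := (Nat.coprime_div_gcd_div_gcd hg).symm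
  refine hco.dvd_of_dvd_mul_left ?_
  obtain ⟨a, ha⟩ := Nat.gcd_dvd_right δ d
  obtain ⟨b, hb⟩ := Nat.gcd_dvd_left δ d
  generalize Nat.gcd δ d = g at *
  rw [ha, hb, Nat.mul_div_cancel_left _ hg, Nat.mul_div_cancel_left _ hg]
  rw [ha, hb, mul_assoc] at h
  exact Nat.dvd_of_mul_dvd_mul_left hg h

/-- If the equation has a solution, the value of `π` is divisible by the index. -/
theorem ind_dvd_of_solution {L : Type*} [Field L] (w : Valuation L ℤᵐ⁰) (π : L) (E d N : ℕ) (hd : 1 ≤ d)
    (hπ : w π = exp (-(E : ℤ))) (x : Fin (N + 1) → L) (hx : x ≠ 0)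
    (heq : x 0 ^ d = ∑ i : Fin N, π ^ ((i : ℕ) + 1) * x i.succ ^ d) : ind d N ∣ E := by
  classical
  let c : Fin (N + 1) → L := Fin.cons (-1) fun i => π ^ ((i : ℕ) + 1)
  have hc : ∀ i, w (c i) = exp (-(((i : ℕ) * E : ℕ) : ℤ)) := fun i => by
    cases i using Fin.cases with
    | zero => simp [c]
    | succ i =>
      simp only [c, Fin.cons_succ, map_pow, hπ, Fin.val_succ]
      rw [← exp_nsmul]
      congr 1
      rw [nsmul_eq_mul]
      push_cast
      ring
  let t : Fin (N + 1) → L := fun i => c i * x i ^ d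
  have hsum : ∑ i, t i = 0 := by
    rw [Fin.sum_univ_succ]
    simp only [t, c, Fin.cons_zero, Fin.cons_succ, neg_mul, one_mul, heq]
    exact neg_add_cancel _
  obtain ⟨i₀, hi₀⟩ : ∃ i, x i ≠ 0 := Function.ne_iff.1 hx
  obtain ⟨j, -, hj⟩ := Finset.exists_max_image Finset.univ (fun i => w (t i)) ⟨i₀, Finset.mem_univ _⟩
  have hti₀ : w (t i₀) ≠ 0 := by
    simp only [t, map_mul, map_pow, hc]
    exact mul_ne_zero exp_ne_zero (pow_ne_zero _ ((Valuation.ne_zero_iff w).2 hi₀))
  have htj : w (t j) ≠ 0 := fun h => hti₀ (le_antisymm (h ▸ hj i₀ (Finset.mem_univ _)) zero_le')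
  obtain ⟨i, hij, hti⟩ : ∃ i, i ≠ j ∧ w (t i) = w (t j) := by
    by_contra hno
    push Not at hno
    have := w.map_sum_eq_of_lt (s := Finset.univ) (f := t) (Finset.mem_univ j) fun i hi => by
      simp only [Finset.mem_sdiff, Finset.mem_singleton] at hi
      exact lt_of_le_of_ne (hj i (Finset.mem_univ _)) (hno i hi.2)
    rw [hsum, map_zero] at this
    exact htj this.symm
  have hval : ∀ i, w (t i) ≠ 0 → ∃ a : ℤ, w (t i) = exp (-(((i : ℕ) * E : ℕ) : ℤ) + (d : ℤ) * a) := fun i hi => by
    have hxi : w (x i) ≠ 0 := fun h => hi (by simp only [t, map_mul, map_pow, h, zero_pow (Nat.one_le_iff_ne_zero.1 hd), mul_zero])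
    refine ⟨log (w (x i)), ?_⟩
    rw [exp_add, show (d : ℤ) * log (w (x i)) = d • log (w (x i)) by rw [nsmul_eq_mul], exp_nsmul, exp_log hxi]
    simp only [t, map_mul, map_pow, hc]
  obtain ⟨a, ha⟩ := hval i (hti ▸ htj)
  obtain ⟨b, hb⟩ := hval j htj
  rw [ha, hb, exp_inj] at hti
  push_cast at hti
  have hdvd : (d : ℤ) ∣ (((i : ℕ) : ℤ) - (j : ℕ)) * E := ⟨a - b, by linarith⟩
  rw [Int.natCast_dvd, Int.natAbs_mul, Int.natAbs_natCast] at hdvd
  have hne : (i : ℕ) ≠ (j : ℕ) := fun h => hij (Fin.ext h)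
  exact ind_dvd_of_dvd hd (Int.natAbs_pos.2 (by omega)) (by have := i.2; have := j.2; omega) hdvd

variable {R : Type u} [CommRing R] [IsDomain R] [IsDiscreteValuationRing R]
  {K : Type u} [Field K] [Algebra R K] [IsFractionRing R K]

set_option linter.deprecated false in
set_option maxHeartbeats 800000 in
/-- The index divides the degree of every field with a solution. -/
theorem ind_dvd_finrank (ϖ : R) (hϖ : Irreducible ϖ) (d N : ℕ) (hd : 1 ≤ d)
    (L : Type u) [Field L] [Algebra K L] [FiniteDimensional K L]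
    (x : Fin (N + 1) → L) (hx : x ≠ 0)
    (heq : x 0 ^ d = ∑ i : Fin N, algebraMap K L (algebraMap R K (ϖ ^ ((i : ℕ) + 1))) * x i.succ ^ d) :
    ind d N ∣ Module.finrank K L := by
  classical
  let p := ringExpChar K
  haveI : ExpChar K p := inferInstance
  let F := separableClosure K L
  haveI : ExpChar F p := expChar_of_injective_algebraMap (algebraMap K F).injective p
  haveI : IsPurelyInseparable F L := separableClosure.isPurelyInseparable K L
  let e := IsPurelyInseparable.exponent F L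
  let φ : L →+* F := IsPurelyInseparable.iterateFrobenius F L p (le_refl e)
  have hpe : p ^ e ∣ Module.finrank F L := by
    rcases Nat.eq_zero_or_pos e with he | he
    · rw [he, pow_zero]; exact one_dvd _
    obtain ⟨a, ha⟩ := IsPurelyInseparable.exponent_min' (K := F) p (L := L) (show e - 1 < e by omega)
    have h1 : e ≤ IsPurelyInseparable.elemExponent F a := by
      by_contra hlt
      refine ha ?_
      obtain ⟨y, hy⟩ := IsPurelyInseparable.elemExponent_def' F p a
      refine ⟨y ^ p ^ (e - 1 - IsPurelyInseparable.elemExponent F a), ?_⟩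
      rw [map_pow, hy, ← pow_mul, ← pow_add]
      congr 2
      omega
    have h2 : (minpoly F a).natDegree ∣ Module.finrank F L :=
      minpoly.degree_dvd (Algebra.IsIntegral.isIntegral a)
    rw [IsPurelyInseparable.minpoly_natDegree_eq' F p] at h2
    exact (pow_dvd_pow p h1).trans h2
  letI : Algebra R F := ((algebraMap K F).comp (algebraMap R K)).toAlgebra
  haveI : IsScalarTower R K F := IsScalarTower.of_algebraMap_eq fun _ => rfl
  let T := integralClosure R F
  haveI : Algebra.IsSeparable K F := separableClosure.isSeparable K L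
  haveI : Module.Finite R T := IsIntegralClosure.finite R K F T
  haveI : IsDedekindDomain T := integralClosure.isDedekindDomain R K F
  haveI : IsFractionRing T F := integralClosure.isFractionRing_of_finite_extension K F
  haveI : Module.IsTorsionFree R F :=
    Module.isTorsionFree_iff_algebraMap_injective.2 (by
      rw [IsScalarTower.algebraMap_eq R K F]
      exact (algebraMap K F).injective.comp (IsFractionRing.injective R K))
  haveI : Module.IsTorsionFree R T := inferInstance
  let v : HeightOneSpectrum R := ⟨IsLocalRing.maximalIdeal R, inferInstance, IsDiscreteValuationRing.not_a_field R⟩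
  have hv : v.valuation K (algebraMap R K ϖ) = exp (-1 : ℤ) := by
    rw [HeightOneSpectrum.valuation_of_algebraMap]
    exact v.intValuation_singleton hϖ.ne_zero hϖ.maximalIdeal_eq
  have hQ : ∀ Q ∈ IsDedekindDomain.primesOverFinset (IsLocalRing.maximalIdeal R) T,
      ind d N ∣ Ideal.ramificationIdx' (IsLocalRing.maximalIdeal R) Q * p ^ e := by
    intro Q hQ
    rw [IsDedekindDomain.mem_primesOverFinset_iff (IsDiscreteValuationRing.not_a_field R)] at hQ
    haveI := hQ.1
    haveI := hQ.2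
    let w : HeightOneSpectrum T := ⟨Q, hQ.1, Ideal.ne_bot_of_liesOver_of_ne_bot (IsDiscreteValuationRing.not_a_field R) Q⟩
    haveI : w.asIdeal.LiesOver v.asIdeal := hQ.2
    have h1 := HeightOneSpectrum.valuation_liesOver F v w (algebraMap R K ϖ)
    rw [hv, ← exp_nsmul, nsmul_eq_mul] at h1
    refine ind_dvd_of_solution ((w.valuation F).comap φ) (algebraMap K L (algebraMap R K ϖ)) _ d N hd ?_ x hx ?_
    · rw [Valuation.comap_apply, IsScalarTower.algebraMap_apply K F L,
        IsPurelyInseparable.iterateFrobenius_algebraMap, map_pow, ← h1, ← exp_nsmul, nsmul_eq_mul]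
      congr 1
      push_cast
      show _ = -(((Ideal.ramificationIdx' (IsLocalRing.maximalIdeal R) Q : ℕ) : ℤ) * ((p : ℤ) ^ e))
      ring
    · rw [heq]
      simp only [map_pow]
  have hsum := Ideal.sum_ramification_inertia (S := T) K F (p := IsLocalRing.maximalIdeal R)
    (IsDiscreteValuationRing.not_a_field R)
  rw [← Module.finrank_mul_finrank K F L]
  refine dvd_trans ?_ (Nat.mul_dvd_mul_left _ hpe)
  rw [← hsum, Finset.sum_mul]
  refine Finset.dvd_sum fun Q hQ' => ?_
  rw [mul_right_comm]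
  exact (hQ Q hQ').mul_right _

/-- The index is attained. -/
theorem exists_field (ϖ : R) (hϖ : Irreducible ϖ) (d N δ : ℕ) (hd : 1 ≤ d) (hδ : 1 ≤ δ) (hδN : δ ≤ N) (hdvd : δ ∣ d) :
    ∃ (L : Type u) (_ : Field L) (_ : Algebra K L),
      FiniteDimensional K L ∧ d / δ = Module.finrank K L ∧
      ∃ x : Fin (N + 1) → L, x ≠ 0 ∧
        x 0 ^ d = ∑ i : Fin N, algebraMap K L (algebraMap R K (ϖ ^ ((i : ℕ) + 1))) * x i.succ ^ d := by
  classical
  obtain ⟨a, rfl⟩ := hdvd
  have ha : 1 ≤ a := Nat.one_le_iff_ne_zero.2 fun h => by simp [h] at hd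
  rw [Nat.mul_div_cancel_left _ hδ]
  let P : Polynomial R := Polynomial.X ^ a - Polynomial.C ϖ
  have hPm : P.Monic := Polynomial.monic_X_pow_sub_C ϖ (by omega)
  have hPd : P.natDegree = a := Polynomial.natDegree_X_pow_sub_C
  have hE : P.IsEisensteinAt (IsLocalRing.maximalIdeal R) := by
    refine hPm.isEisensteinAt_of_mem_of_notMem (IsLocalRing.maximalIdeal.isMaximal R).ne_top (fun {n} hn => ?_) ?_
    · rw [hPd] at hn
      rw [Polynomial.coeff_sub, Polynomial.coeff_X_pow, if_neg (by omega), Polynomial.coeff_C, zero_sub, neg_mem_iff]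
      split_ifs
      · rw [hϖ.maximalIdeal_eq]; exact Ideal.mem_span_singleton_self _
      · exact zero_mem _
    · rw [Polynomial.coeff_sub, Polynomial.coeff_X_pow, if_neg (by omega), Polynomial.coeff_C, if_pos rfl, zero_sub,
        neg_mem_iff, hϖ.maximalIdeal_eq, Ideal.span_singleton_pow, Ideal.mem_span_singleton]
      rintro ⟨c, hc⟩
      refine hϖ.not_isUnit (IsUnit.of_mul_eq_one c ?_)
      exact mul_left_cancel₀ hϖ.ne_zero (by rw [mul_one, ← mul_assoc, ← pow_two]; exact hc.symm)
  have hirr := hE.irreducible (IsLocalRing.maximalIdeal.isMaximal R).isPrime hPm.isPrimitive (by omega)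
  have hirrK : Irreducible (P.map (algebraMap R K)) :=
    (Polynomial.Monic.irreducible_iff_irreducible_map_fraction_map hPm).1 hirr
  haveI := Fact.mk hirrK
  let L := AdjoinRoot (P.map (algebraMap R K))
  haveI : FiniteDimensional K L := (AdjoinRoot.powerBasis hirrK.ne_zero).finite
  refine ⟨L, inferInstance, inferInstance, inferInstance, ?_, ?_⟩
  · rw [(AdjoinRoot.powerBasis hirrK.ne_zero).finrank, AdjoinRoot.powerBasis_dim,
      Polynomial.natDegree_map_eq_of_injective (IsFractionRing.injective R K), hPd]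
  · obtain ⟨δ', rfl⟩ : ∃ δ', δ = δ' + 1 := ⟨δ - 1, by omega⟩
    let α : L := AdjoinRoot.root _
    have hα : α ^ a = algebraMap K L (algebraMap R K ϖ) := by
      have h : AdjoinRoot.mk (P.map (algebraMap R K)) (Polynomial.X ^ a - Polynomial.C (algebraMap R K ϖ)) = 0 :=
        AdjoinRoot.mk_eq_zero.2 (dvd_of_eq (by simp [P]))
      rw [map_sub, map_pow, AdjoinRoot.mk_X, AdjoinRoot.mk_C, sub_eq_zero] at h
      exact h
    let j : Fin N := ⟨δ', by omega⟩
    refine ⟨fun i => if i = 0 then α else if i = j.succ then 1 else 0, fun h => ?_, ?_⟩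
    · have := congrFun h j.succ
      simp at this
    · simp only [Fin.succ_ne_zero, if_true, if_false, Fin.succ_inj]
      rw [Finset.sum_eq_single j (fun i _ hi => by rw [if_neg hi, zero_pow (by omega : (δ' + 1) * a ≠ 0), mul_zero])
        (fun h => absurd (Finset.mem_univ j) h), if_pos rfl, one_pow, mul_one, map_pow, map_pow, mul_comm (δ' + 1) a, pow_mul, hα]

/-- The subgroup generated by the degrees. -/
theorem closure_eq (ϖ : R) (hϖ : Irreducible ϖ) (d N : ℕ) (hd : 1 ≤ d) :
    AddSubgroup.closure {m : ℤ | ∃ (L : Type u) (_ : Field L) (_ : Algebra K L),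
        FiniteDimensional K L ∧ m = (Module.finrank K L : ℤ) ∧
        ∃ x : Fin (N + 1) → L, x ≠ 0 ∧
          x 0 ^ d = ∑ i : Fin N, algebraMap K L (algebraMap R K (ϖ ^ ((i : ℕ) + 1))) * x i.succ ^ d} =
      AddSubgroup.zmultiples ((ind d N : ℕ) : ℤ) := by
  refine le_antisymm ((AddSubgroup.closure_le _).2 ?_) ?_
  · rintro m ⟨L, iL, aL, fL, rfl, x, hx, heq⟩
    rw [SetLike.mem_coe, Int.mem_zmultiples_iff, Int.natCast_dvd_natCast]
    exact ind_dvd_finrank ϖ hϖ d N hd L x hx heq
  · rw [AddSubgroup.zmultiples_le]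
    obtain ⟨h, hh⟩ := Int.subgroup_cyclic (AddSubgroup.closure {m : ℤ | ∃ (L : Type u) (_ : Field L) (_ : Algebra K L),
        FiniteDimensional K L ∧ m = (Module.finrank K L : ℤ) ∧
        ∃ x : Fin (N + 1) → L, x ≠ 0 ∧
          x 0 ^ d = ∑ i : Fin N, algebraMap K L (algebraMap R K (ϖ ^ ((i : ℕ) + 1))) * x i.succ ^ d})
    rw [hh, ← AddSubgroup.zmultiples_eq_closure, Int.mem_zmultiples_iff, Int.dvd_natCast]
    refine Finset.dvd_gcd fun δ hδ => ?_
    simp only [Finset.mem_filter, Finset.mem_Icc] at hδ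
    obtain ⟨L, iL, aL, fL, hL, hsol⟩ := exists_field (K := K) ϖ hϖ d N δ hd hδ.1.1 hδ.1.2 hδ.2
    have hmem := AddSubgroup.subset_closure (k := {m : ℤ | ∃ (L : Type u) (_ : Field L) (_ : Algebra K L),
        FiniteDimensional K L ∧ m = (Module.finrank K L : ℤ) ∧
        ∃ x : Fin (N + 1) → L, x ≠ 0 ∧
          x 0 ^ d = ∑ i : Fin N, algebraMap K L (algebraMap R K (ϖ ^ ((i : ℕ) + 1))) * x i.succ ^ d})
      (show ((d / δ : ℕ) : ℤ) ∈ _ from ⟨L, iL, aL, fL, by rw [hL], hsol⟩)
    rwa [hh, ← AddSubgroup.zmultiples_eq_closure, SetLike.mem_coe, Int.mem_zmultiples_iff, Int.dvd_natCast] at hmem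

end Groth.L14.TwistDiag
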